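import Mathlib.RingTheory.WittVector.StructurePolynomial
import Mathlib.RingTheory.WittVector.Defs
import Mathlib.RingTheory.MvPolynomial.WeightedHomogeneous

/-!
Weighted homogeneity of the Witt structure polynomials.
-/

noncomputable section

namespace Groth.Agent.Witt.Homogeneous

open MvPolynomial

variable {σ τ R : Type*} [CommRing R]

/-- Substituting homogeneous polynomials into a homogeneous polynomial. -/
theorem bind₁_isWeightedHomogeneous {w : σ → ℕ} {v : τ → ℕ} {g : σ → MvPolynomial τ R}
    {f : MvPolynomial σ R} {m : ℕ} (hf : IsWeightedHomogeneous w f m)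
    (hg : ∀ k, IsWeightedHomogeneous v (g k) (w k)) :
    IsWeightedHomogeneous v (bind₁ g f) m := by
  classical
  rw [f.as_sum, map_sum]
  refine IsWeightedHomogeneous.sum _ _ _ fun d hd => ?_
  rw [bind₁_monomial]
  refine IsWeightedHomogeneous.C_mul ?_ _
  have hm : Finsupp.weight w d = m := hf (mem_support_iff.1 hd)
  rw [← hm, Finsupp.weight_apply]
  refine IsWeightedHomogeneous.prod _ (fun i => g i ^ d i) (fun i => d i * w i) fun i _ => ?_
  simpa using (hg i).pow (d i)

variable (p : ℕ)

theorem xInTermsOfW_isWeightedHomogeneous [Invertible (p : R)] (n : ℕ) :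
    IsWeightedHomogeneous (fun k : ℕ => p ^ k) (xInTermsOfW p R n) (p ^ n) := by
  induction n using Nat.strong_induction_on with
  | _ n ih =>
    rw [xInTermsOfW_eq, mul_comm]
    refine IsWeightedHomogeneous.C_mul ?_ _
    refine IsWeightedHomogeneous.sub (isWeightedHomogeneous_X _ _ n) ?_
    refine IsWeightedHomogeneous.sum _ _ _ fun i hi => ?_
    refine IsWeightedHomogeneous.C_mul ?_ _
    have h := (ih i (Finset.mem_range.1 hi)).pow (p ^ (n - i))
    rwa [smul_eq_mul, ← pow_add, Nat.sub_add_cancel (Finset.mem_range.1 hi).le] at h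

variable {idx : Type*}

theorem rename_wittPolynomial_isWeightedHomogeneous (e : idx → ℕ) (i : idx) (k : ℕ) :
    IsWeightedHomogeneous (fun q : idx × ℕ => e q.1 * p ^ q.2)
      (rename (Prod.mk i) (wittPolynomial p R k)) (e i * p ^ k) := by
  rw [wittPolynomial_eq_sum_C_mul_X_pow, map_sum]
  refine IsWeightedHomogeneous.sum _ _ _ fun j hj => ?_
  simp only [map_mul, rename_C, map_pow, rename_X]
  rw [← map_pow]
  refine IsWeightedHomogeneous.C_mul ?_ _
  have h := (isWeightedHomogeneous_X R (fun q : idx × ℕ => e q.1 * p ^ q.2) (i, j)).pow (p ^ (k - j))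
  rwa [smul_eq_mul, mul_left_comm, ← pow_add,
    Nat.sub_add_cancel (Nat.lt_succ_iff.1 (Finset.mem_range.1 hj))] at h

/-- If `Φ` is homogeneous of degree `E`, the structure polynomials are homogeneous. -/
theorem wittStructureInt_isWeightedHomogeneous [hp : Fact p.Prime] (e : idx → ℕ) {E : ℕ}
    (Φ : MvPolynomial idx ℤ) (hΦ : IsWeightedHomogeneous e Φ E) (n : ℕ) :
    IsWeightedHomogeneous (fun q : idx × ℕ => e q.1 * p ^ q.2) (wittStructureInt p Φ n) (E * p ^ n) := by
  classical
  have h : IsWeightedHomogeneous (fun q : idx × ℕ => e q.1 * p ^ q.2)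
      (wittStructureRat p (map (Int.castRingHom ℚ) Φ) n) (E * p ^ n) := by
    refine bind₁_isWeightedHomogeneous (w := fun k => E * p ^ k) ?_ fun k => ?_
    · intro d hd
      have h1 : Finsupp.weight (fun k : ℕ => p ^ k) d = p ^ n :=
        xInTermsOfW_isWeightedHomogeneous p n hd
      rw [← h1, Finsupp.weight_apply, Finsupp.weight_apply, Finsupp.mul_sum]
      exact Finsupp.sum_congr fun x _ => by rw [smul_eq_mul, smul_eq_mul, mul_left_comm]
    · refine bind₁_isWeightedHomogeneous (w := fun i => e i * p ^ k) ?_ fun i =>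
        rename_wittPolynomial_isWeightedHomogeneous p e i k
      intro d hd
      rw [coeff_map] at hd
      have h1 : Finsupp.weight e d = E := hΦ fun h0 => hd (by rw [h0, map_zero])
      rw [← h1, Finsupp.weight_apply, Finsupp.weight_apply, Finsupp.sum_mul]
      exact Finsupp.sum_congr fun x _ => by rw [smul_eq_mul, smul_eq_mul, mul_assoc]
  intro d hd
  refine h (d := d) ?_
  rw [← map_wittStructureInt, coeff_map]
  simpa using hd

/-- Evaluating a homogeneous polynomial on elements of a multiplicative family of submodules. -/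
theorem aeval_mem {A K : Type*} [CommRing A] [CommRing K] [Algebra A K] (M : ℕ → Submodule A K)
    (hmul : ∀ (i j : ℕ) (a b : K), a ∈ M i → b ∈ M j → a * b ∈ M (i + j))
    {w : σ → ℕ} (x : σ → K) (hx : ∀ s, x s ∈ M (w s) ∨ (w s = 0 ∧ x s ∈ Set.range (algebraMap A K)))
    {f : MvPolynomial σ ℤ} {m : ℕ} (hm : m ≠ 0) (hf : IsWeightedHomogeneous w f m) :
    aeval x f ∈ M m := by
  classical
  rw [f.as_sum, map_sum]
  refine sum_mem fun d hd => ?_
  rw [aeval_monomial, algebraMap_int_eq, eq_intCast, ← zsmul_eq_mul]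
  refine zsmul_mem ?_ _
  have hw : Finsupp.weight w d = m := hf (mem_support_iff.1 hd)
  -- a product lies in `M` of the weight, or is a scalar of weight zero
  have key : ∀ d : σ →₀ ℕ, (d.prod fun s k => x s ^ k) ∈ M (Finsupp.weight w d) ∨
      (Finsupp.weight w d = 0 ∧ (d.prod fun s k => x s ^ k) ∈ Set.range (algebraMap A K)) := by
    intro d
    induction d using Finsupp.induction_linear with
    | zero => exact Or.inr ⟨map_zero _, ⟨1, by simp⟩⟩
    | add a b ha hb =>
      rw [map_add, Finsupp.prod_add_index' (fun _ => pow_zero _) fun _ _ _ => pow_add _ _ _]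
      rcases ha with ha | ⟨ha0, r, hr⟩ <;> rcases hb with hb | ⟨hb0, r', hr'⟩
      · exact Or.inl (hmul _ _ _ _ ha hb)
      · rw [hb0, add_zero, ← hr', mul_comm, ← Algebra.smul_def]
        exact Or.inl ((M _).smul_mem _ ha)
      · rw [ha0, zero_add, ← hr, ← Algebra.smul_def]
        exact Or.inl ((M _).smul_mem _ hb)
      · exact Or.inr ⟨by omega, r * r', by rw [map_mul, hr, hr']⟩
    | single s k =>
      rw [Finsupp.prod_single_index (h := fun s k => x s ^ k) (pow_zero _), Finsupp.weight_single]
      induction k with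
      | zero => exact Or.inr ⟨by simp, ⟨1, by simp⟩⟩
      | succ k ih =>
        rw [succ_nsmul, pow_succ]
        rcases ih with ih | ⟨ih0, r, hr⟩ <;> rcases hx s with h | ⟨h0, r', hr'⟩
        · exact Or.inl (hmul _ _ _ _ ih h)
        · have h' := (M _).smul_mem r' ih
          rw [Algebra.smul_def r' (x s ^ k), hr', mul_comm] at h'
          rw [h0, add_zero]
          exact Or.inl (by simpa [h0] using h')
        · rw [ih0, zero_add, ← hr, ← Algebra.smul_def]
          exact Or.inl ((M _).smul_mem _ h)
        · exact Or.inr ⟨by rw [ih0, h0], r * r', by rw [map_mul, hr, hr']⟩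
  rcases key d with h | ⟨h, -⟩
  · rwa [hw] at h
  · exact absurd (hw.symm.trans h) hm

end Groth.Agent.Witt.Homogeneous
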